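-- Minimal non-p-closed groups that are not simple.
--
-- Main results (namespace `Cfsg.Agent.MinNonClosed`):
-- * `card_eq_of_irreducible`: an elementary abelian q-group with an irreducible element of prime order p has order q^e,
--   e the order of q modulo p
-- * `card_eq_of_minimal_normal`: the same for a minimal normal subgroup of prime index in a nonabelian group
-- * `structure_of_not_simple`: the structure theorem
import Cfsg.Agent.Lib.Solvable.Basic
import Cfsg.Agent.Lib.Coprime.Invariant

set_option autoImplicit false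

namespace Cfsg.Agent.MinNonClosed

theorem eq_top_or_bot_of_invariant {A : Type*} [CommGroup A] (φ : A →* A)
    (hirr : ∀ B : Subgroup A, (∀ b ∈ B, φ b ∈ B) → B = ⊥ ∨ B = ⊤)
    (s : AddMonoid.End (Additive A))
    (hcomm : ∀ a : Additive A, s (Additive.ofMul (φ a.toMul)) = Additive.ofMul (φ (s a).toMul)) :
    ((∀ a : Additive A, s a = 0) ∨ ∀ a : Additive A, s a = 0 → a = 0) ∧
      ((∀ a : Additive A, s a = 0) ∨ ∀ b : Additive A, ∃ a, s a = b) := by
  let f : A →* A :=
    { toFun := fun a => (s (Additive.ofMul a)).toMul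
      map_one' := by simp
      map_mul' := fun a b => by simp }
  have hf : ∀ a, f (φ a) = φ (f a) := fun a => congrArg Additive.toMul (hcomm (Additive.ofMul a))
  constructor
  · rcases hirr f.ker (fun b hb => by rw [MonoidHom.mem_ker, hf, MonoidHom.mem_ker.mp hb, map_one]) with h | h
    · right
      intro a ha
      have : a.toMul ∈ f.ker := by
        rw [MonoidHom.mem_ker]; show (s a).toMul = 1; rw [ha]; rfl
      rw [h, Subgroup.mem_bot] at this
      exact congrArg Additive.ofMul this
    · left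
      intro a
      have : a.toMul ∈ f.ker := h ▸ Subgroup.mem_top _
      exact congrArg Additive.ofMul (MonoidHom.mem_ker.mp this)
  · rcases hirr f.range (by rintro _ ⟨a, rfl⟩; exact ⟨φ a, hf a⟩) with h | h
    · left
      intro a
      have : f a.toMul ∈ f.range := ⟨_, rfl⟩
      rw [h, Subgroup.mem_bot] at this
      exact congrArg Additive.ofMul this
    · right
      intro b
      obtain ⟨a, ha⟩ := (h ▸ Subgroup.mem_top b.toMul : b.toMul ∈ f.range)
      exact ⟨Additive.ofMul a, congrArg Additive.ofMul ha⟩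

/-- A finite domain of characteristic `q` generated by an element of prime order `p`. -/
theorem exponent_eq_of_generated {S : Type*} [CommRing S] [IsDomain S] [Finite S] {p q : ℕ}
    [Fact p.Prime] [Fact q.Prime] [CharP S q] (hpq : q ≠ p) (T : S) (hT : orderOf T = p)
    (hgen : Subring.closure {T} = ⊤) {e : ℕ} (he : Nat.card S = q ^ e) :
    e = orderOf (q : ZMod p) := by
  classical
  have hp : p.Prime := Fact.out
  have hq : q.Prime := Fact.out
  have hqp : (q : ZMod p) ≠ 0 := by
    rw [Ne, ZMod.natCast_eq_zero_iff]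
    exact fun h => hpq ((Nat.prime_dvd_prime_iff_eq hp hq).mp h).symm
  set d := orderOf (q : ZMod p) with hd
  have hd0 : 0 < d := orderOf_pos_iff.mpr ((isOfFinOrder_iff_pow_eq_one).mpr
    ⟨p - 1, by have := hp.two_le; omega, ZMod.pow_card_sub_one_eq_one hqp⟩)
  have he0 : e ≠ 0 := fun h => Finite.one_lt_card.ne' (by rw [he, h, pow_zero] : Nat.card S = 1)
  haveI := Fintype.ofFinite S
  letI : Field S := (Finite.isField_of_domain S).toField
  have h1 : T ^ (Nat.card S - 1) = 1 := by
    rw [Nat.card_eq_fintype_card]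
    exact FiniteField.pow_card_sub_one_eq_one T (fun h => by
      have := hT; rw [h, orderOf_zero] at this; exact hp.ne_zero this.symm)
  rw [← orderOf_dvd_iff_pow_eq_one, hT, he, ← ZMod.natCast_eq_zero_iff,
    Nat.cast_sub (Nat.one_le_pow _ _ hq.pos), Nat.cast_pow, Nat.cast_one, sub_eq_zero] at h1
  have hde : d ∣ e := orderOf_dvd_of_pow_eq_one h1
  have hTd : T ^ q ^ d = T := by
    have h2 : q ^ d % p = 1 := by
      have h3 : ((q ^ d : ℕ) : ZMod p) = ((1 : ℕ) : ZMod p) := by
        rw [Nat.cast_pow, pow_orderOf_eq_one, Nat.cast_one]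
      rw [(ZMod.natCast_eq_natCast_iff _ _ _).mp h3, Nat.mod_eq_of_lt hp.one_lt]
    rw [← pow_mod_orderOf, hT, h2, pow_one]
  have hfix : ∀ s : S, s ^ q ^ d = s := by
    intro s
    have hle : Subring.closure {T} ≤ RingHom.eqLocus (iterateFrobenius S q d) (RingHom.id S) := by
      rw [Subring.closure_le]
      intro x hx
      rw [Set.mem_singleton_iff] at hx
      subst hx
      exact hTd
    exact hle (hgen ▸ Subring.mem_top s)
  have hle : e ≤ d := by
    have h3 : Fintype.card S ≤ q ^ d := by
      have hP : (Polynomial.X ^ (q ^ d) - Polynomial.X : Polynomial S) ≠ 0 :=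
        FiniteField.X_pow_card_sub_X_ne_zero S (Nat.one_lt_pow hd0.ne' hq.one_lt)
      have hdeg : (Polynomial.X ^ (q ^ d) - Polynomial.X : Polynomial S).natDegree = q ^ d :=
        FiniteField.X_pow_card_sub_X_natDegree_eq S (Nat.one_lt_pow hd0.ne' hq.one_lt)
      rw [← hdeg, ← Finset.card_univ]
      refine Polynomial.card_le_degree_of_subset_roots (p := _) ?_
      intro s _
      rw [Polynomial.mem_roots hP]
      simp [hfix s]
    rw [← Nat.card_eq_fintype_card, he] at h3
    exact (Nat.pow_le_pow_iff_right hq.one_lt).mp h3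
  exact le_antisymm hle (Nat.le_of_dvd (Nat.pos_of_ne_zero he0) hde)

open scoped IsMulCommutative in
/-- An irreducible automorphism of prime order of an elementary abelian group determines its order. -/
theorem card_eq_of_irreducible {A : Type*} [CommGroup A] [Finite A] {p q : ℕ} [Fact p.Prime]
    (hq : q.Prime) (hpq : q ≠ p) (hA : ∀ a : A, a ^ q = 1) (φ : A →* A) (hφp : ∀ a : A, φ^[p] a = a)
    (hne : ∃ a : A, φ a ≠ a) (hirr : ∀ B : Subgroup A, (∀ b ∈ B, φ b ∈ B) → B = ⊥ ∨ B = ⊤) :
    Nat.card A = q ^ orderOf (q : ZMod p) := by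
  classical
  haveI : Fact q.Prime := ⟨hq⟩
  let t : AddMonoid.End (Additive A) := MonoidHom.toAdditive φ
  have hs : ∀ x ∈ ({t} : Set (AddMonoid.End (Additive A))), ∀ y ∈ ({t} : Set (AddMonoid.End (Additive A))),
      x * y = y * x := by
    intro x hx y hy
    rw [Set.mem_singleton_iff] at hx hy
    rw [hx, hy]
  haveI hm : IsMulCommutative (Subring.closure ({t} : Set (AddMonoid.End (Additive A)))) :=
    Subring.isMulCommutative_closure hs
  set S := Subring.closure ({t} : Set (AddMonoid.End (Additive A))) with hSdef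
  haveI : Finite S :=
    haveI : Finite (AddMonoid.End (Additive A)) :=
      Finite.of_injective (fun f : AddMonoid.End (Additive A) => (f : Additive A → Additive A)) DFunLike.coe_injective
    inferInstance
  have ht : t ∈ S := Subring.subset_closure rfl
  have hcomm : ∀ s : S, ∀ a : Additive A, (s : AddMonoid.End (Additive A)) (t a) = t ((s : AddMonoid.End (Additive A)) a) :=
    fun s a => DFunLike.congr_fun (congrArg Subtype.val (hm.is_comm.comm s (⟨t, ht⟩ : S))) a
  have hS : ∀ s : S, ((∀ a, (s : AddMonoid.End (Additive A)) a = 0) ∨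
      ∀ a, (s : AddMonoid.End (Additive A)) a = 0 → a = 0) := fun s =>
    (eq_top_or_bot_of_invariant φ hirr s (hcomm s)).1
  obtain ⟨a₀, ha₀⟩ := hne
  set v : Additive A := Additive.ofMul a₀ with hv
  have hv0 : v ≠ 0 := fun h => ha₀ (by
    have h1 : a₀ = 1 := congrArg Additive.toMul h
    rw [h1, map_one])
  haveI : NoZeroDivisors S := by
    constructor
    intro a b hab
    rcases hS a with h | h
    · exact Or.inl (Subtype.ext (AddMonoidHom.ext h))
    · refine Or.inr (Subtype.ext (AddMonoidHom.ext fun x => h _ ?_))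
      exact DFunLike.congr_fun (congrArg Subtype.val hab) x
  haveI : Nontrivial S := ⟨0, 1, fun h => hv0 (DFunLike.congr_fun (congrArg Subtype.val h) v).symm⟩
  haveI : IsDomain S := NoZeroDivisors.to_isDomain _
  let ev : S →+ Additive A :=
    { toFun := fun s => (s : AddMonoid.End (Additive A)) v
      map_zero' := rfl
      map_add' := fun _ _ => rfl }
  have hev : Function.Injective ev := (injective_iff_map_eq_zero ev).mpr fun s hs => by
    rcases hS s with h | h
    · exact Subtype.ext (AddMonoidHom.ext h)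
    · exact absurd (h v hs) hv0
  haveI : CharP S q := by
    refine (CharP.charP_iff_prime_eq_zero hq).mpr (hev ?_)
    rw [map_zero]
    have h1 : ev ((q : S)) = q • ev 1 := by rw [← map_nsmul, nsmul_one]
    rw [h1]
    exact congrArg Additive.ofMul (hA a₀)
  have hevs : Function.Surjective ev := by
    intro a
    let B : Subgroup A :=
      { carrier := {b | ∃ s : S, ev s = Additive.ofMul b}
        one_mem' := ⟨0, by simp⟩
        mul_mem' := by rintro b c ⟨s, hs⟩ ⟨s', hs'⟩; exact ⟨s + s', by rw [map_add, hs, hs']; rfl⟩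
        inv_mem' := by rintro b ⟨s, hs⟩; exact ⟨-s, by rw [map_neg, hs]; rfl⟩ }
    rcases hirr B (by
      rintro b ⟨s, hs⟩
      exact ⟨⟨t, ht⟩ * s, show t ((s : AddMonoid.End (Additive A)) v) = Additive.ofMul (φ b) by
        rw [show (s : AddMonoid.End (Additive A)) v = Additive.ofMul b from hs]; rfl⟩) with h | h
    · refine absurd ?_ hv0
      have : a₀ ∈ B := ⟨1, rfl⟩
      rw [h, Subgroup.mem_bot] at this
      exact congrArg Additive.ofMul this
    · exact (h ▸ Subgroup.mem_top a.toMul : a.toMul ∈ B)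
  have hcard : Nat.card S = Nat.card A := Nat.card_eq_of_bijective ev ⟨hev, hevs⟩
  set T : S := ⟨t, ht⟩ with hT
  have hTpow : ∀ (k : ℕ) (a : Additive A), ((T ^ k : S) : AddMonoid.End (Additive A)) a = Additive.ofMul (φ^[k] a.toMul) := by
    intro k
    induction k with
    | zero => intro a; rfl
    | succ k ih =>
      intro a
      rw [pow_succ', Function.iterate_succ_apply']
      show t (((T ^ k : S) : AddMonoid.End (Additive A)) a) = _
      rw [ih]
      rfl
  have hT1 : T ≠ 1 := fun h => ha₀ (congrArg Additive.toMul (DFunLike.congr_fun (congrArg Subtype.val h) v))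
  have hTp : T ^ p = 1 := hev ((hTpow p v).trans (congrArg Additive.ofMul (hφp a₀)))
  obtain ⟨e, he⟩ : ∃ e, Nat.card A = q ^ e := IsPGroup.iff_card.mp (fun a => ⟨1, by rw [pow_one, hA]⟩)
  have hgen : Subring.closure {T} = ⊤ := by
    rw [eq_top_iff]
    intro s _
    have hle : S ≤ (Subring.closure {T}).map S.subtype := by
      refine (Subring.closure_le).mpr ?_
      intro x hx
      rw [Set.mem_singleton_iff] at hx
      subst hx
      exact ⟨T, Subring.subset_closure rfl, rfl⟩
    obtain ⟨s', hs', he'⟩ := hle s.2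
    exact (Subtype.ext he' : s' = s) ▸ hs'
  rw [he, exponent_eq_of_generated hpq T (orderOf_eq_prime hTp hT1) hgen (e := e) (by rw [hcard, he])]

variable {G : Type*} [Group G] [Finite G] {p : ℕ}

/-- A minimal normal elementary abelian subgroup of prime index in a nonabelian group. -/
theorem card_eq_of_minimal_normal [Fact p.Prime] {q : ℕ} (hq : q.Prime) (hpq : q ≠ p)
    (hna : ¬ IsMulCommutative G) (A : Subgroup G) [A.Normal] (hA : Cfsg.IsElementaryAbelian q A)
    (hidx : A.index = p) (hmin : ∀ B : Subgroup G, B.Normal → B ≤ A → B = ⊥ ∨ B = A) :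
    Nat.card ↥A = q ^ orderOf (q : ZMod p) := by
  have hp : p.Prime := Fact.out
  letI : CommGroup A := { (inferInstance : Group A) with mul_comm := hA.1.is_comm.comm }
  obtain ⟨x, -, hx⟩ : ∃ x ∈ (⊤ : Subgroup G), x ∉ A :=
    SetLike.exists_of_lt (lt_top_iff_ne_top.mpr fun h => hp.ne_one (by rw [← hidx, h, Subgroup.index_top]))
  have hgen : A ⊔ Subgroup.zpowers x = ⊤ := by
    rw [← Subgroup.index_eq_one]
    rcases (Nat.dvd_prime hp).mp (hidx ▸ Subgroup.index_dvd_of_le (le_sup_left : A ≤ A ⊔ Subgroup.zpowers x)) with h | h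
    · exact h
    · exfalso
      have h1 : Nat.card ↥A = Nat.card ↥(A ⊔ Subgroup.zpowers x) := by
        refine Nat.eq_of_mul_eq_mul_right hp.pos ?_
        conv_rhs => rw [← h, Subgroup.card_mul_index]
        rw [← hidx, Subgroup.card_mul_index]
      have h2 := Subgroup.eq_of_le_of_card_ge le_sup_left h1.ge
      exact hx (h2 ▸ Subgroup.mem_sup_right (Subgroup.mem_zpowers x))
  have hxp : x ^ p ∈ A := hidx ▸ A.pow_index_mem x
  let φ : A →* A := ((MulAut.conjNormal x : MulAut A) : A →* A)
  have hφ : ∀ (k : ℕ) (a : A), ((φ^[k] a : A) : G) = x ^ k * (a : G) * (x ^ k)⁻¹ := by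
    intro k
    induction k with
    | zero => intro a; simp
    | succ k ih =>
      intro a
      rw [Function.iterate_succ_apply', show ((φ (φ^[k] a) : A) : G) = x * ((φ^[k] a : A) : G) * x⁻¹ from
        MulAut.conjNormal_apply _ _, ih, pow_succ']
      group
  refine card_eq_of_irreducible hq hpq (fun a => Subtype.ext (by simpa using hA.2 a a.2)) φ ?_ ?_ ?_
  · intro a
    apply Subtype.ext
    rw [hφ, show x ^ p * (a : G) = (a : G) * x ^ p from
      congrArg Subtype.val (hA.1.is_comm.comm ⟨_, hxp⟩ a), mul_inv_cancel_right]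
  · by_contra h
    push Not at h
    have hxa : ∀ a ∈ A, x * a = a * x := fun a ha => by
      have := congrArg Subtype.val (h ⟨a, ha⟩)
      rw [show ((φ ⟨a, ha⟩ : A) : G) = x * a * x⁻¹ from MulAut.conjNormal_apply _ _] at this
      exact mul_inv_eq_iff_eq_mul.mp this
    refine hna ⟨⟨fun g h => ?_⟩⟩
    obtain ⟨a, ha, y, ⟨k, rfl⟩, rfl⟩ := Subgroup.mem_sup_of_normal_left.mp (hgen ▸ Subgroup.mem_top g)
    obtain ⟨b, hb, z, ⟨l, rfl⟩, rfl⟩ := Subgroup.mem_sup_of_normal_left.mp (hgen ▸ Subgroup.mem_top h)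
    have h1 : Commute a b := congrArg Subtype.val (hA.1.is_comm.comm ⟨a, ha⟩ ⟨b, hb⟩)
    exact (Commute.mul_left (h1.mul_right ((show Commute x a from hxa a ha).symm.zpow_right l))
      (((show Commute x b from hxa b hb).zpow_left k).mul_right ((Commute.refl x).zpow_zpow k l))).eq
  · intro B hB
    have hBn : (B.map A.subtype).Normal := by
      rw [← Subgroup.normalizer_eq_top_iff, eq_top_iff, ← hgen]
      refine sup_le ?_ (Subgroup.zpowers_le.mpr ?_)
      · intro a ha
        rw [Subgroup.mem_normalizer_iff_map_conj_eq, Subgroup.map_map]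
        congr 1
        refine MonoidHom.ext fun b => ?_
        show a * (b : G) * a⁻¹ = (b : G)
        rw [show a * (b : G) = (b : G) * a from congrArg Subtype.val (hA.1.is_comm.comm ⟨a, ha⟩ b),
          mul_inv_cancel_right]
      · have hle : ∀ b ∈ B.map A.subtype, x * b * x⁻¹ ∈ B.map A.subtype := by
          rintro _ ⟨b, hb, rfl⟩
          exact ⟨φ b, hB b hb, MulAut.conjNormal_apply _ _⟩
        rw [Subgroup.mem_normalizer_iff_map_conj_eq]
        refine Subgroup.eq_of_le_of_card_ge (by rintro _ ⟨b, hb, rfl⟩; exact hle b hb) ?_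
        exact (Subgroup.card_map_of_injective (MulAut.conj x).injective).ge
    rcases hmin _ hBn (Subgroup.map_subtype_le B) with h | h
    · left; exact (Subgroup.map_eq_bot_iff_of_injective _ A.subtype_injective).mp h
    · right
      refine Subgroup.map_injective A.subtype_injective ?_
      rw [h, ← MonoidHom.range_eq_map, Subgroup.range_subtype]

/-- A normal Sylow subgroup contains every `p`-subgroup. -/
theorem le_of_pClosed [Fact p.Prime] (hc : Cfsg.IsPClosed p G) {R : Subgroup G} (hR : IsPGroup p R)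
    (P : Sylow p G) : R ≤ (P : Subgroup G) := by
  obtain ⟨Q, hQ⟩ := hR.exists_le_sylow
  haveI := Sylow.unique_of_normal P (hc P)
  rwa [Subsingleton.elim Q P] at hQ

/-- The structure of non-simple minimal non-`p`-closed groups. -/
theorem structure_of_not_simple [Fact p.Prime]
    (hnc : ¬ Cfsg.IsPClosed p G) (hsub : ∀ H : Subgroup G, H ≠ ⊤ → Cfsg.IsPClosed p ↥H)
    (hquo : ∀ (N : Subgroup G) [N.Normal], N ≠ ⊥ → Cfsg.IsPClosed p (G ⧸ N)) (hns : ¬ IsSimpleGroup G) :
    ∃ q : ℕ, q.Prime ∧ q ≠ p ∧ Nat.card G = p * q ^ orderOf (q : ZMod p) ∧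
      ∃ A : Subgroup G, A.Normal ∧ Nat.card ↥A = q ^ orderOf (q : ZMod p) ∧ Cfsg.IsElementaryAbelian q A ∧
        ∀ B : Subgroup G, B.Normal → B ≤ A → B = ⊥ ∨ B = A := by
  classical
  have hp : p.Prime := Fact.out
  obtain ⟨P, hP⟩ := not_forall.mp hnc
  have hPbot : (P : Subgroup G) ≠ ⊥ := fun h => hP (h ▸ Subgroup.normal_bot)
  haveI : Nontrivial G := by
    by_contra h
    rw [not_nontrivial_iff_subsingleton] at h
    exact hPbot (Subsingleton.elim _ _)
  -- proper normal subgroups
  have hsupn : ∀ N : Subgroup G, N.Normal → N ≠ ⊥ → ((P : Subgroup G) ⊔ N).Normal := by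
    intro N hN hb
    haveI := hN
    have := (hquo N hb (P.mapSurjective (QuotientGroup.mk'_surjective N))).comap (QuotientGroup.mk' N)
    rwa [show ((P.mapSurjective (QuotientGroup.mk'_surjective N)) : Subgroup (G ⧸ N)) =
      (P : Subgroup G).map (QuotientGroup.mk' N) from rfl, Subgroup.comap_map_eq, QuotientGroup.ker_mk'] at this
  have hcop : ∀ N : Subgroup G, N.Normal → N ≠ ⊤ → ¬ p ∣ Nat.card N := by
    intro N hN ht hdvd
    haveI := hN
    obtain ⟨S⟩ := (inferInstance : Nonempty (Sylow p N))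
    haveI := Sylow.characteristic_of_normal S (hsub N ht S)
    have hMn : ((S : Subgroup N).map N.subtype).Normal := inferInstance
    have hM : (S : Subgroup N).map N.subtype ≠ ⊥ := by
      rw [Ne, Subgroup.map_eq_bot_iff_of_injective _ N.subtype_injective]
      exact S.ne_bot_of_dvd_card hdvd
    have hMP : (S : Subgroup N).map N.subtype ≤ (P : Subgroup G) := (S.2.map N.subtype).le_sylow_of_normal P
    have := hsupn _ hMn hM
    rw [sup_eq_left.mpr hMP] at this
    exact hP this
  have htop : ∀ N : Subgroup G, N.Normal → N ≠ ⊥ → (P : Subgroup G) ⊔ N = ⊤ := by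
    intro N hN hb
    by_contra h
    refine hcop _ (hsupn N hN hb) h (dvd_trans ?_ (Subgroup.card_dvd_of_le le_sup_left))
    obtain ⟨k, hk⟩ := IsPGroup.iff_card.mp P.2
    rw [hk]
    exact dvd_pow_self p fun h0 => hPbot (Subgroup.card_eq_one.mp (by rw [hk, h0, pow_zero]))
  obtain ⟨N, hNn, hN1, hN2⟩ : ∃ K : Subgroup G, K.Normal ∧ K ≠ ⊥ ∧ K ≠ ⊤ := by
    by_contra hno
    exact hns ⟨fun K hK => by
      by_contra hc
      push Not at hc
      exact hno ⟨K, hK, hc.1, hc.2⟩⟩
  haveI := hNn
  obtain ⟨A, hAn, hA1, hAN, hAmin⟩ := Cfsg.Agent.Solvable.exists_minimal_normal hN1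
  haveI := hAn
  have hA2 : A ≠ ⊤ := fun h => hN2 (top_le_iff.mp (h ▸ hAN))
  have hAp : ¬ p ∣ Nat.card A := hcop A hAn hA2
  have hAP : (P : Subgroup G) ⊔ A = ⊤ := htop A hAn hA1
  have hdisj : (P : Subgroup G) ⊓ A = ⊥ := by
    obtain ⟨k, hk⟩ := IsPGroup.iff_card.mp P.2
    exact Subgroup.inf_eq_bot_of_coprime (hk ▸ ((hp.coprime_iff_not_dvd).mpr hAp).pow_left k)
  have hcardG : Nat.card G = Nat.card (P : Subgroup G) * Nat.card A := by
    rw [← Cfsg.Agent.Solvable.card_sup_of_disjoint _ A hdisj, hAP, Subgroup.card_top]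
  -- `P` has order `p`
  have hPp : Nat.card (P : Subgroup G) = p := by
    haveI : Nontrivial (P : Subgroup G) := (Subgroup.nontrivial_iff_ne_bot _).mpr hPbot
    haveI := P.2.center_nontrivial
    obtain ⟨c, hc⟩ := exists_prime_orderOf_dvd_card' (G := Subgroup.center (P : Subgroup G)) p (by
      obtain ⟨k, hk⟩ := IsPGroup.iff_card.mp (P.2.to_subgroup (Subgroup.center (P : Subgroup G)))
      rw [hk]
      exact dvd_pow_self p fun h0 => Finite.one_lt_card.ne' (by rw [hk, h0, pow_zero]))
    set y : G := ((c : (P : Subgroup G)) : G) with hy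
    have hyP : y ∈ (P : Subgroup G) := (c : (P : Subgroup G)).2
    have hyord : orderOf y = p := by rw [hy, Subgroup.orderOf_coe, Subgroup.orderOf_coe, hc]
    have hn : (Subgroup.zpowers y ⊔ A).Normal := by
      rw [← Subgroup.normalizer_eq_top_iff, eq_top_iff, ← hAP]
      refine sup_le ?_ (le_sup_right.trans Subgroup.le_normalizer)
      intro u hu
      rw [Subgroup.mem_normalizer_iff_map_conj_eq, Subgroup.map_sup, MonoidHom.map_zpowers]
      congr 1
      · congr 1
        show u * y * u⁻¹ = y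
        have := congrArg Subtype.val (Subgroup.mem_center_iff.mp c.2 ⟨u, hu⟩)
        rw [show u * y = y * u from this, mul_inv_cancel_right]
      · exact Subgroup.Normal.map_conj_eq A u
    have htopy : Subgroup.zpowers y ⊔ A = ⊤ := by
      by_contra h
      exact hcop _ hn h (dvd_trans (by rw [Nat.card_zpowers, hyord]) (Subgroup.card_dvd_of_le le_sup_left))
    have hd : Subgroup.zpowers y ⊓ A = ⊥ := by
      rw [eq_bot_iff, ← hdisj]
      exact inf_le_inf_right A (Subgroup.zpowers_le.mpr hyP)
    have h1 := Cfsg.Agent.Solvable.card_sup_of_disjoint _ A hd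
    rw [htopy, Subgroup.card_top, hcardG, Nat.card_zpowers, hyord] at h1
    exact Nat.eq_of_mul_eq_mul_right Nat.card_pos h1
  have hidx : A.index = p := by
    have := A.card_mul_index
    rw [hcardG, hPp, mul_comm p] at this
    exact Nat.eq_of_mul_eq_mul_left Nat.card_pos this
  -- the chief factor is a `q`-group
  have hnormA : (P : Subgroup G) ≤ Subgroup.normalizer (A : Set G) := by
    rw [Subgroup.normalizer_eq_top_iff.mpr hAn]; exact le_top
  have hcopA : (Nat.card (P : Subgroup G)).Coprime (Nat.card A) := by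
    rw [hPp]; exact (hp.coprime_iff_not_dvd).mpr hAp
  haveI hPs : Group.IsSolvable (P : Subgroup G) := by
    haveI := P.2.isNilpotent
    infer_instance
  obtain ⟨q, hq, Q, hQn, hQtop⟩ : ∃ q : ℕ, q.Prime ∧ ∃ Q : Sylow q A,
      (P : Subgroup G) ≤ Subgroup.normalizer ((Q : Subgroup A).map A.subtype : Set G) ∧
      (P : Subgroup G) ⊔ (Q : Subgroup A).map A.subtype = ⊤ := by
    by_contra hno
    push Not at hno
    have hAC : A ≤ Subgroup.centralizer ((P : Subgroup G) : Set G) := by
      intro a ha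
      suffices h : (Subgroup.centralizer ((P : Subgroup G) : Set G)).subgroupOf A = ⊤ from
        Subgroup.subgroupOf_eq_top.mp h ha
      set C := (Subgroup.centralizer ((P : Subgroup G) : Set G)).subgroupOf A
      refine Subgroup.eq_top_of_card_eq _ (Nat.dvd_antisymm (Subgroup.card_subgroup_dvd_card _) ?_)
      rw [← Nat.factorization_le_iff_dvd Nat.card_pos.ne' Nat.card_pos.ne', Finsupp.le_def]
      intro r
      by_cases hr : r.Prime
      swap
      · simp [Nat.factorization_eq_zero_of_not_prime _ hr]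
      haveI : Fact r.Prime := ⟨hr⟩
      obtain ⟨R, hR⟩ := Cfsg.Agent.Coprime.exists_invariant_sylow hnormA hcopA (Or.inl hPs) r
      set R' := (R : Subgroup A).map A.subtype with hR'
      have hH := hsub _ (hno r hr R hR)
      have hPn : ((P.subtype (le_sup_left : (P : Subgroup G) ≤ (P : Subgroup G) ⊔ R')) :
          Subgroup ↥((P : Subgroup G) ⊔ R')).Normal := hH _
      have hle : (R : Subgroup A) ≤ C := by
        intro u hu
        rw [Subgroup.mem_subgroupOf, Subgroup.mem_centralizer_iff]
        intro z hz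
        have hu' : (u : G) ∈ R' := ⟨u, hu, rfl⟩
        have h1 : (u : G) * z * (u : G)⁻¹ ∈ (P : Subgroup G) :=
          hPn.conj_mem ⟨z, Subgroup.mem_sup_left hz⟩ hz ⟨u, Subgroup.mem_sup_right hu'⟩
        have h2 : (u : G) * z * (u : G)⁻¹ * z⁻¹ ∈ (P : Subgroup G) ⊓ A := by
          refine ⟨(P : Subgroup G).mul_mem h1 ((P : Subgroup G).inv_mem hz), ?_⟩
          rw [show (u : G) * z * (u : G)⁻¹ * z⁻¹ = (u : G) * (z * (u : G)⁻¹ * z⁻¹) by group]
          exact A.mul_mem u.2 (hAn.conj_mem _ (A.inv_mem u.2) z)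
        rw [hdisj, Subgroup.mem_bot, mul_inv_eq_one, mul_inv_eq_iff_eq_mul] at h2
        exact h2.symm
      have h3 := Subgroup.card_dvd_of_le hle
      rw [R.card_eq_multiplicity] at h3
      exact (Nat.Prime.pow_dvd_iff_le_factorization hr Nat.card_pos.ne').mp h3
    refine hP (Subgroup.normalizer_eq_top_iff.mp (top_le_iff.mp ?_))
    rw [← hAP]
    exact sup_le Subgroup.le_normalizer (hAC.trans (Subgroup.centralizer_le_normalizer _))
  haveI : Fact q.Prime := ⟨hq⟩
  have hQA : (Q : Subgroup A).map A.subtype = A := by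
    refine le_antisymm (Subgroup.map_subtype_le _) fun a ha => ?_
    obtain ⟨u, hu, v, hv, rfl⟩ := (Cfsg.Agent.Coprime.mem_sup_iff hQn).mp (by rw [sup_comm, hQtop]; exact Subgroup.mem_top a)
    have hv' : v ∈ (P : Subgroup G) ⊓ A := ⟨hv, by
      simpa using A.mul_mem (A.inv_mem (Subgroup.map_subtype_le _ hu)) ha⟩
    rw [hdisj, Subgroup.mem_bot] at hv'
    rwa [hv', mul_one]
  haveI : Fact q.Prime := ⟨hq⟩
  have hAq : IsPGroup q A := (Q.2.map A.subtype).of_equiv (MulEquiv.subgroupCongr hQA)
  haveI : Group.IsSolvable A := by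
    haveI := hAq.isNilpotent
    infer_instance
  obtain ⟨hAc, q', hq', hAq', hAexp⟩ := Cfsg.Agent.Solvable.elementaryAbelian_of_minimal_normal A hA1 hAmin
  haveI : Fact q'.Prime := ⟨hq'⟩
  obtain ⟨k, hk⟩ := IsPGroup.iff_card.mp hAq'
  have hk0 : k ≠ 0 := fun h => hA1 (Subgroup.card_eq_one.mp (by rw [hk, h, pow_zero]))
  have hq'p : q' ≠ p := fun h => hAp (hk ▸ h ▸ dvd_pow_self q' hk0)
  have hcard := card_eq_of_minimal_normal hq' hq'p (fun hc => hnc fun S =>
    ⟨fun s hs g => by rwa [show g * s = s * g from hc.is_comm.comm g s, mul_inv_cancel_right]⟩)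
    A ⟨hAc, hAexp⟩ hidx hAmin
  exact ⟨q', hq', hq'p, by rw [hcardG, hPp, hcard], A, hAn, hcard, ⟨hAc, hAexp⟩, hAmin⟩

end Cfsg.Agent.MinNonClosed
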